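import Mathlib.CategoryTheory.Sites.Pullback
import Mathlib.CategoryTheory.Sites.Abelian
import Mathlib.CategoryTheory.Adjunction.Additive
import Mathlib.CategoryTheory.ConnectedComponents
import Mathlib.CategoryTheory.Abelian.GrothendieckAxioms.Basic
import Mathlib.CategoryTheory.Abelian.GrothendieckAxioms.Colim
import Mathlib.Algebra.Category.Grp.AB
import Mathlib.Algebra.Homology.ShortComplex.ExactFunctor
import Mathlib.CategoryTheory.Functor.KanExtension.Adjunction
import Mathlib.CategoryTheory.Limits.Preserves.Shapes.Pullbacks
import Mathlib.CategoryTheory.Limits.Preserves.Shapes.Equalizers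

/-!
Left Kan extension along a functor preserving pullbacks and equalizers is exact on abelian presheaves.
-/

set_option autoImplicit false
set_option linter.style.haveILetI false
set_option backward.defeqAttrib.useBackward true
set_option backward.isDefEq.respectTransparency false

universe u

open CategoryTheory CategoryTheory.Limits Opposite

namespace Groth.Agent.CohSiteLib

section Colim

variable {J : Type u} [SmallCategory J]

/-- Components of a category with span completion and weak coequalizers are filtered. -/
theorem isFiltered_component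
    (hspan : ∀ {k i j : J} (_ : k ⟶ i) (_ : k ⟶ j), ∃ l : J, Nonempty (i ⟶ l) ∧ Nonempty (j ⟶ l))
    (hpar : ∀ {i j : J} (f g : i ⟶ j), ∃ (l : J) (h : j ⟶ l), f ≫ h = g ≫ h)
    (a : CategoryTheory.ConnectedComponents J) : IsFiltered a.Component := by
  have hz : ∀ {x y : J}, Zigzag x y → ∃ l, Nonempty (x ⟶ l) ∧ Nonempty (y ⟶ l) := by
    intro x y h
    induction h with
    | refl => exact ⟨x, ⟨𝟙 x⟩, ⟨𝟙 x⟩⟩
    | tail _ hyz ih =>
      obtain ⟨l, ⟨p⟩, ⟨q⟩⟩ := ih
      rcases hyz with ⟨⟨r⟩⟩ | ⟨⟨r⟩⟩
      · obtain ⟨l', ⟨s⟩, ⟨t⟩⟩ := hspan q r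
        exact ⟨l', ⟨p ≫ s⟩, ⟨t⟩⟩
      · exact ⟨l, ⟨p⟩, ⟨r ≫ q⟩⟩
  have hmem : ∀ {x l : J} (_ : x ⟶ l), CategoryTheory.ConnectedComponents.mk x = a → CategoryTheory.ConnectedComponents.mk l = a :=
    fun f hx => (Quotient.sound' (Zigzag.of_inv f)).trans hx
  haveI : IsFilteredOrEmpty a.Component :=
    { cocone_objs := fun x y => by
        obtain ⟨l, ⟨p⟩, ⟨q⟩⟩ := hz (Quotient.exact' (x.2.trans y.2.symm))
        exact ⟨⟨l, hmem p x.2⟩, ObjectProperty.homMk p, ObjectProperty.homMk q, trivial⟩
      cocone_maps := fun x y f g => by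
        obtain ⟨l, h, hh⟩ := hpar f.hom g.hom
        exact ⟨⟨l, hmem h y.2⟩, ObjectProperty.homMk h, ObjectProperty.hom_ext _ hh⟩ }
  exact { }

/-- Colimits over a disjoint union are exact if they are on each summand. -/
theorem mono_colimMap_sigma {I : Type u} {K : I → Type u} [∀ i, SmallCategory (K i)]
    [∀ i, IsFiltered (K i)] {F G : (Σ i, K i) ⥤ AddCommGrpCat.{u}} (η : F ⟶ G) [∀ x, Mono (η.app x)] :
    Mono (colimMap η) := by
  let A : ((Σ i, K i) ⥤ AddCommGrpCat.{u}) → I → AddCommGrpCat.{u} := fun H i =>
    colimit (Sigma.incl i ⋙ H)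
  let e : ∀ H : (Σ i, K i) ⥤ AddCommGrpCat.{u}, (∐ A H) ≅ colimit H := fun H =>
    { hom := Sigma.desc fun i => colimit.pre H (Sigma.incl i)
      inv := colimit.desc H
        { pt := ∐ A H
          ι :=
            { app := fun x => colimit.ι (Sigma.incl x.1 ⋙ H) x.2 ≫ Sigma.ι (A H) x.1
              naturality := by
                rintro ⟨i, j⟩ ⟨_, k⟩ ⟨f⟩
                simp only [Functor.const_obj_map, Category.comp_id]
                rw [← Category.assoc]
                exact congrArg (· ≫ Sigma.ι (A H) i) (colimit.w (Sigma.incl i ⋙ H) f) } }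
      hom_inv_id := by
        refine Sigma.hom_ext _ _ fun i => colimit.hom_ext fun j => ?_
        simp [A]
      inv_hom_id := by
        refine colimit.hom_ext fun x => ?_
        simp [A] }
  let m : (∐ A F) ⟶ ∐ A G := Limits.Sigma.map fun i => colimMap (Functor.whiskerLeft (Sigma.incl i) η)
  haveI : ∀ i, Mono (colimMap (Functor.whiskerLeft (Sigma.incl i) η)) := fun i => by
    haveI : ∀ x, Mono ((Functor.whiskerLeft (Sigma.incl i) η).app x) := fun x => by
      rw [Functor.whiskerLeft_app]; infer_instance
    haveI : Mono (Functor.whiskerLeft (Sigma.incl i) η) := NatTrans.mono_of_mono_app _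
    exact (colim (J := K i) (C := AddCommGrpCat.{u})).map_mono (Functor.whiskerLeft (Sigma.incl i) η)
  haveI : Mono m := by
    let η' := Discrete.natTrans (F := Discrete.functor (A F)) (G := Discrete.functor (A G))
      fun i => colimMap (Functor.whiskerLeft (Sigma.incl i.as) η)
    haveI : ∀ x, Mono (η'.app x) := fun ⟨x⟩ => by
      show Mono (colimMap (Functor.whiskerLeft (Sigma.incl x) η)); infer_instance
    haveI : Mono η' := NatTrans.mono_of_mono_app _
    exact (colim (J := Discrete I) (C := AddCommGrpCat.{u})).map_mono η'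
  have h : (e F).hom ≫ colimMap η = m ≫ (e G).hom := by
    refine Sigma.hom_ext _ _ fun i => colimit.hom_ext fun j => ?_
    simp [e, m, A]
  have h' : colimMap η = (e F).inv ≫ m ≫ (e G).hom := by rw [← h, Iso.inv_hom_id_assoc]
  rw [h']
  haveI h1 : IsIso (e F).inv := (e F).isIso_inv
  haveI h2 : IsIso (e G).hom := (e G).isIso_hom
  exact mono_comp' (IsIso.mono_of_iso _) (mono_comp' ‹Mono m› (IsIso.mono_of_iso _))

/-- Exactness of colimits over a category with span completion and weak coequalizers. -/
theorem mono_colimMap
    (hspan : ∀ {k i j : J} (_ : k ⟶ i) (_ : k ⟶ j), ∃ l : J, Nonempty (i ⟶ l) ∧ Nonempty (j ⟶ l))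
    (hpar : ∀ {i j : J} (f g : i ⟶ j), ∃ (l : J) (h : j ⟶ l), f ≫ h = g ≫ h)
    {F G : J ⥤ AddCommGrpCat.{u}} (η : F ⟶ G) [∀ x, Mono (η.app x)] : Mono (colimMap η) := by
  haveI := fun a => isFiltered_component hspan hpar (J := J) a
  let d := decomposedTo J
  haveI : ∀ x, Mono ((Functor.whiskerLeft d η).app x) := fun x => by
    rw [Functor.whiskerLeft_app]; infer_instance
  haveI := mono_colimMap_sigma (K := fun a : CategoryTheory.ConnectedComponents J => a.Component)
    (F := d ⋙ F) (G := d ⋙ G) (Functor.whiskerLeft d η)
  have h : colimit.pre F d ≫ colimMap η = colimMap (Functor.whiskerLeft d η) ≫ colimit.pre G d := by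
    refine colimit.hom_ext fun x => ?_
    simp
  have h' : colimMap η = inv (colimit.pre F d) ≫ colimMap (Functor.whiskerLeft d η) ≫ colimit.pre G d := by
    rw [← h, IsIso.inv_hom_id_assoc]
  rw [h']
  infer_instance

end Colim

section Lan

variable {C D : Type u} [SmallCategory C] [SmallCategory D]

/-- Left Kan extension along a functor preserving pullbacks and equalizers preserves monomorphisms. -/
theorem lan_preservesMonomorphisms (v : C ⥤ D) [HasPullbacks C] [HasEqualizers C]
    [PreservesLimitsOfShape WalkingCospan v] [PreservesLimitsOfShape WalkingParallelPair v] :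
    (v.op.lan : (Cᵒᵖ ⥤ AddCommGrpCat.{u}) ⥤ _).PreservesMonomorphisms where
  preserves {P Q} f _ := by
    haveI : ∀ W, Mono ((v.op.lan.map f).app W) := fun W => by
      let proj := CostructuredArrow.proj v.op W
      have hP := v.op.isPointwiseLeftKanExtensionLeftKanExtensionUnit P W
      have hQ := v.op.isPointwiseLeftKanExtensionLeftKanExtensionUnit Q W
      haveI : ∀ x, Mono ((Functor.whiskerLeft proj f).app x) := fun x => by
        rw [Functor.whiskerLeft_app]; infer_instance
      haveI := mono_colimMap (J := CostructuredArrow v.op W) ?_ ?_ (Functor.whiskerLeft proj f)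
      · have key : (v.op.lan.map f).app W = (hP.coconePointUniqueUpToIso (colimit.isColimit _)).hom ≫
            colimMap (Functor.whiskerLeft proj f) ≫
              (hQ.coconePointUniqueUpToIso (colimit.isColimit _)).inv := by
          refine hP.hom_ext fun x => ?_
          rw [hP.comp_coconePointUniqueUpToIso_hom_assoc, colimit.cocone_ι, ι_colimMap_assoc]
          erw [hQ.comp_coconePointUniqueUpToIso_inv]
          have hn := congr_app (v.op.lanUnit.naturality f) x.left
          have hn2 := (v.op.lan.map f).naturality x.hom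
          show ((v.op.lanUnit.app P).app _ ≫ _) ≫ _ = f.app _ ≫ _ ≫ _
          erw [Category.assoc, hn2]
          exact (Category.assoc _ _ _).symm.trans
            ((congrArg (· ≫ (v.op.lan.obj Q).map x.hom) hn.symm).trans (Category.assoc _ _ _))
        rw [key]
        infer_instance
      · intro k i j a b
        have ha := congrArg Quiver.Hom.unop (CostructuredArrow.w a)
        have hb := congrArg Quiver.Hom.unop (CostructuredArrow.w b)
        simp only [Functor.op_map, unop_comp, Quiver.Hom.unop_op] at ha hb
        let h := (isLimitOfHasPullbackOfPreservesLimit v a.left.unop b.left.unop)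
        let w := PullbackCone.IsLimit.lift h i.hom.unop j.hom.unop (ha.trans hb.symm)
        refine ⟨CostructuredArrow.mk (Y := op (pullback a.left.unop b.left.unop)) w.op,
          ⟨CostructuredArrow.homMk (pullback.fst a.left.unop b.left.unop).op ?_⟩,
          ⟨CostructuredArrow.homMk (pullback.snd a.left.unop b.left.unop).op ?_⟩⟩
        · apply Quiver.Hom.unop_inj
          simpa using PullbackCone.IsLimit.lift_fst h i.hom.unop j.hom.unop (ha.trans hb.symm)
        · apply Quiver.Hom.unop_inj
          simpa using PullbackCone.IsLimit.lift_snd h i.hom.unop j.hom.unop (ha.trans hb.symm)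
      · intro i j a b
        have ha := congrArg Quiver.Hom.unop (CostructuredArrow.w a)
        have hb := congrArg Quiver.Hom.unop (CostructuredArrow.w b)
        simp only [Functor.op_map, unop_comp, Quiver.Hom.unop_op] at ha hb
        let h := (isLimitOfHasEqualizerOfPreservesLimit v a.left.unop b.left.unop)
        let w := Fork.IsLimit.lift h j.hom.unop (ha.trans hb.symm)
        refine ⟨CostructuredArrow.mk (Y := op (equalizer a.left.unop b.left.unop)) w.op,
          CostructuredArrow.homMk (equalizer.ι a.left.unop b.left.unop).op ?_, ?_⟩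
        · apply Quiver.Hom.unop_inj
          exact Fork.IsLimit.lift_ι' h _ _
        · apply CostructuredArrow.hom_ext
          apply Quiver.Hom.unop_inj
          exact equalizer.condition _ _
    exact NatTrans.mono_of_mono_app _

/-- The pullback of abelian sheaves along a functor preserving pullbacks and equalizers is left exact. -/
theorem preservesFiniteLimits_sheafPullback (J : GrothendieckTopology C) (K : GrothendieckTopology D)
    (v : C ⥤ D) [v.IsContinuous J K] [HasPullbacks C] [HasEqualizers C]
    [PreservesLimitsOfShape WalkingCospan v] [PreservesLimitsOfShape WalkingParallelPair v] :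
    PreservesFiniteLimits (v.sheafPullback AddCommGrpCat.{u} J K) := by
  haveI := lan_preservesMonomorphisms v
  haveI : (Functor.sheafPullbackConstruction.sheafPullback v AddCommGrpCat.{u} J K).PreservesMonomorphisms :=
    ⟨fun {A B} f _ => by
      show Mono ((presheafToSheaf _ _).map (v.op.lan.map ((sheafToPresheaf _ _).map f)))
      infer_instance⟩
  haveI : (v.sheafPullback AddCommGrpCat.{u} J K).PreservesMonomorphisms :=
    Functor.PreservesMonomorphisms.of_iso
      (Functor.sheafPullbackConstruction.sheafPullbackIso v AddCommGrpCat.{u} J K).symm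
  let adj := v.sheafAdjunctionContinuous AddCommGrpCat.{u} J K
  haveI : PreservesColimitsOfSize.{0, 0} (v.sheafPullback AddCommGrpCat.{u} J K) := adj.leftAdjoint_preservesColimits
  haveI : PreservesFiniteColimits (v.sheafPullback AddCommGrpCat.{u} J K) :=
    PreservesColimitsOfSize.preservesFiniteColimits _
  haveI : (v.sheafPullback AddCommGrpCat.{u} J K).IsLeftAdjoint := adj.isLeftAdjoint
  haveI : (v.sheafPushforwardContinuous AddCommGrpCat.{u} J K).Additive := {}
  haveI : (v.sheafPullback AddCommGrpCat.{u} J K).Additive := adj.left_adjoint_additive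
  rw [Functor.preservesFiniteLimits_iff_forall_exact_map_and_mono]
  intro S hS
  haveI := hS.mono_f
  haveI := hS.epi_g
  exact ⟨((Functor.preservesFiniteColimits_iff_forall_exact_map_and_epi _).1 inferInstance S hS).1, inferInstance⟩

end Lan

end Groth.Agent.CohSiteLib
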