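import Groth.Prelude.Def_CohSite
import Groth.Agent.EtMV.ExtAdj
import Groth.Agent.SSExist.OverKInj
import Mathlib.CategoryTheory.Sites.Pullback
import Mathlib.CategoryTheory.Sites.CoverPreserving
import Mathlib.CategoryTheory.Limits.Preserves.Shapes.Over
import Mathlib.CategoryTheory.Functor.Flat
import Mathlib.CategoryTheory.Limits.Constructions.Over.Basic
import Mathlib.CategoryTheory.Comma.Over.Pullback
import Mathlib.Algebra.Category.Grp.ForgetCorepresentable

/-!
Cohomology of an object as cohomology of the slice site.
-/

set_option autoImplicit false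
set_option linter.style.haveILetI false

universe u

open CategoryTheory CategoryTheory.Limits CategoryTheory.Abelian Opposite

namespace Groth.Agent.CohSiteLib

variable {C D : Type u} [SmallCategory C] [SmallCategory D]

noncomputable section

/-- Sections over `U`, as sets. -/
abbrev sec (J : GrothendieckTopology C) (U : C) : Sheaf J AddCommGrpCat.{u} ⥤ Type u :=
  sheafToPresheaf J AddCommGrpCat.{u} ⋙ (evaluation _ _).obj (op U) ⋙ forget AddCommGrpCat.{u}

/-- The free abelian sheaf on an object. -/
abbrev free (J : GrothendieckTopology C) (U : C) : Sheaf J AddCommGrpCat.{u} :=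
  (presheafToSheaf J AddCommGrpCat.{u}).obj (yoneda.obj U ⋙ AddCommGrpCat.free)

/-- `ℤ`. -/
abbrev constZ (J : GrothendieckTopology C) : Sheaf J AddCommGrpCat.{u} :=
  (constantSheaf J AddCommGrpCat.{u}).obj (AddCommGrpCat.of (ULift.{u} ℤ))

/-- The free abelian sheaf on `U` corepresents the sections over `U`. -/
def freeCorep (J : GrothendieckTopology C) (U : C) : (sec J U).CorepresentableBy (free J U) where
  homEquiv {F} :=
    (((sheafificationAdjunction J AddCommGrpCat.{u}).homEquiv _ F).trans
      (((AddCommGrpCat.adj).whiskerRight Cᵒᵖ).homEquiv (yoneda.obj U) F.obj)).trans yonedaEquiv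
  homEquiv_comp {F G} g f := by
    simp only [Equiv.trans_apply]
    rw [Adjunction.homEquiv_naturality_right, Adjunction.homEquiv_naturality_right, yonedaEquiv_comp]
    rfl

/-- The constant sheaf `ℤ` corepresents the sections over a terminal object. -/
def constCorep (J : GrothendieckTopology C) {T : C} (hT : IsTerminal T) :
    (sec J T).CorepresentableBy (constZ J) where
  homEquiv {F} :=
    ((constantSheafAdj J AddCommGrpCat.{u} hT).homEquiv _ F).trans
      (AddCommGrpCat.uliftZMultiplesAddEquiv _).toEquiv
  homEquiv_comp {F G} g f := by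
    simp only [Equiv.trans_apply]
    rw [Adjunction.homEquiv_naturality_right]
    rfl

/-- Corepresentability transports along an adjunction. -/
def mapCorep {A : Type*} [Category.{u} A] {B : Type*} [Category.{u} B] {L : A ⥤ B} {R : B ⥤ A}
    (adj : L ⊣ R) {S : A ⥤ Type u} {a : A} (h : S.CorepresentableBy a) :
    (R ⋙ S).CorepresentableBy (L.obj a) where
  homEquiv {Y} := (adj.homEquiv a Y).trans h.homEquiv
  homEquiv_comp g f := by
    simp only [Equiv.trans_apply]
    rw [Adjunction.homEquiv_naturality_right, h.homEquiv_comp]
    rfl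

/-- `Ext` out of a corepresenting object, transported along an adjunction with exact right adjoint. -/
def extEquiv {A B : Type (u + 1)} [Category.{u} A] [Abelian A] [HasExt.{u} A] [Category.{u} B] [Abelian B]
    [HasExt.{u} B] [EnoughInjectives B] {L : A ⥤ B} {R : B ⥤ A} [R.Additive] [PreservesFiniteLimits R]
    [PreservesFiniteColimits R] [L.PreservesMonomorphisms] (adj : L ⊣ R) {a : A} {b : B}
    {S : B ⥤ Type u} (hb : S.CorepresentableBy b) (ha : S.CorepresentableBy (L.obj a)) (F : B) (n : ℕ) :
    Ext b F n ≃+ Ext a (R.obj F) n :=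
  let i := ha.uniqueUpToIso hb
  let e₁ : Ext b F n ≃+ Ext (L.obj a) F n :=
    { toFun := fun x => (Ext.mk₀ i.hom).comp x (zero_add n)
      invFun := fun x => (Ext.mk₀ i.inv).comp x (zero_add n)
      left_inv := fun x => by simp
      right_inv := fun x => by simp
      map_add' := fun x y => by simp }
  e₁.trans (AddEquiv.ofBijective (EtMV.Φ adj a F n) (EtMV.Φ_bijective adj a F n))

/-- `H^n(U, F)` is the cohomology of the restriction of `F` to `C/U`. -/
def huEquiv (J : GrothendieckTopology C) (F : Sheaf J AddCommGrpCat.{u}) (U : C) (n : ℕ) :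
    CohSite.HU F n U ≃+ Sheaf.H.{u} (F.over U) n :=
  let adj := SSExist.shriekShAdj J U
  haveI : (CohSite.push J (J.over U) (Over.forget U)).IsLeftAdjoint :=
    ((Over.forget U).sheafAdjunctionCocontinuous AddCommGrpCat.{u} (J.over U) J).isLeftAdjoint
  haveI : (CohSite.push J (J.over U) (Over.forget U)).IsRightAdjoint := adj.isRightAdjoint
  haveI : (SSExist.shriekSh J U).PreservesMonomorphisms := ⟨fun {A B} f hf => by
    haveI : Mono f.hom := (sheafToPresheaf (J.over U) AddCommGrpCat.{u}).map_mono f
    haveI := SSExist.mono_shriekMap f.hom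
    exact (presheafToSheaf J AddCommGrpCat.{u}).map_mono (SSExist.shriekMap f.hom)⟩
  extEquiv adj (S := sec J U) (freeCorep J U)
    (mapCorep adj (constCorep (J.over U) (T := Over.mk (𝟙 U)) Over.mkIdTerminal)) F n

/-- The pullback of abelian sheaves along a flat functor is left exact. -/
theorem preservesFiniteLimits_sheafPullback_of_flat (J : GrothendieckTopology C) (K : GrothendieckTopology D)
    (v : C ⥤ D) [RepresentablyFlat v] [v.IsContinuous J K] :
    PreservesFiniteLimits (v.sheafPullback AddCommGrpCat.{u} J K) :=
  Functor.sheafPullbackConstruction.preservesFiniteLimits _ _ _ _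

/-- `Over.post u` preserves finite limits if `u` preserves pullbacks. -/
theorem overPost_preservesFiniteLimits [HasPullbacks C] (u : C ⥤ D)
    [PreservesLimitsOfShape WalkingCospan u] (X : C) :
    PreservesFiniteLimits (Over.post (X := X) u) := by
  haveI : PreservesLimit (Functor.empty.{0} (Over X)) (Over.post (X := X) u) :=
    preservesLimit_of_preserves_limit_cone Over.mkIdTerminal
      ((isLimitMapConeEmptyConeEquiv _ _).symm (Over.mkIdTerminal.ofIso
        (Over.isoMk (Iso.refl _) ((Category.id_comp _).trans (u.map_id _)))))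
  haveI : PreservesLimitsOfShape (Discrete PEmpty.{1}) (Over.post (X := X) u) :=
    preservesLimitsOfShape_pempty_of_preservesTerminal _
  haveI : PreservesLimitsOfShape WalkingCospan (Over.post (X := X) u) := by
    haveI : PreservesLimitsOfShape WalkingCospan (Over.post (X := X) u ⋙ Over.forget (u.obj X)) :=
      inferInstanceAs (PreservesLimitsOfShape WalkingCospan (Over.forget X ⋙ u))
    exact preservesLimitsOfShape_of_reflects_of_preserves _ (Over.forget (u.obj X))
  exact preservesFiniteLimits_of_preservesTerminal_and_pullbacks _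

set_option synthInstance.maxHeartbeats 200000 in
set_option maxHeartbeats 1000000 in
/-- Cohomology commutes with restriction along a continuous cocontinuous functor preserving pullbacks. -/
def pushHUEquiv [HasPullbacks C] (J : GrothendieckTopology C) (K : GrothendieckTopology D) (u : C ⥤ D)
    [u.IsContinuous J K] (hu : CoverPreserving J K u) [PreservesLimitsOfShape WalkingCospan u]
    [u.IsCocontinuous J K] (F : Sheaf K AddCommGrpCat.{u}) (U : C) (p : ℕ) :
    CohSite.HU ((CohSite.push K J u).obj F) p U ≃+ CohSite.HU F p (u.obj U) :=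
  haveI := overPost_preservesFiniteLimits u U
  haveI : HasTerminal (Over U) := Over.mkIdTerminal.hasTerminal
  haveI : HasPullbacks (Over U) := hasLimitsOfShape_of_hasLimitsOfShape_createsLimitsOfShape (Over.forget U)
  haveI : HasFiniteLimits (Over U) := hasFiniteLimits_of_hasTerminal_and_pullbacks
  haveI : RepresentablyFlat (Over.post (X := U) u) := flat_of_preservesFiniteLimits _
  haveI : (Over.post (X := U) u).IsContinuous (J.over U) (K.over (u.obj U)) :=
    Functor.isContinuous_of_coverPreserving (compatiblePreservingOfFlat _ _) (hu.overPost U)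
  let R := CohSite.push (K.over (u.obj U)) (J.over U) (Over.post (X := U) u)
  let adj := (Over.post (X := U) u).sheafAdjunctionContinuous AddCommGrpCat.{u} (J.over U) (K.over (u.obj U))
  haveI : R.IsLeftAdjoint :=
    ((Over.post (X := U) u).sheafAdjunctionCocontinuous AddCommGrpCat.{u} (J.over U) (K.over (u.obj U))).isLeftAdjoint
  haveI : R.IsRightAdjoint := adj.isRightAdjoint
  haveI : PreservesFiniteLimits ((Over.post (X := U) u).sheafPullback AddCommGrpCat.{u} (J.over U) (K.over (u.obj U))) :=
    preservesFiniteLimits_sheafPullback_of_flat _ _ _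
  haveI : ((Over.post (X := U) u).sheafPullback AddCommGrpCat.{u} (J.over U) (K.over (u.obj U))).PreservesMonomorphisms :=
    preservesMonomorphisms_of_preservesLimitsOfShape _
  let i : ((CohSite.push K J u).obj F).over U ≅ R.obj (F.over (u.obj U)) :=
    (fullyFaithfulSheafToPresheaf _ _).preimageIso (Iso.refl _)
  let T : Over (u.obj U) := (Over.post u).obj (Over.mk (𝟙 U))
  let hT : IsTerminal T := Over.mkIdTerminal.ofIso (Over.isoMk (Iso.refl _) ((Category.id_comp _).trans (u.map_id _)))
  let e := extEquiv adj (S := sec (K.over (u.obj U)) T) (constCorep _ hT)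
    (mapCorep adj (constCorep (J.over U) (T := Over.mk (𝟙 U)) Over.mkIdTerminal)) (F.over (u.obj U)) p
  (huEquiv J _ U p).trans <| (((Sheaf.functorH (J.over U) p).mapIso i).addCommGroupIsoToAddEquiv).trans <|
    e.symm.trans (huEquiv K F (u.obj U) p).symm

end

end Groth.Agent.CohSiteLib
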